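import Mathlib

/-! # Algebra for Krull–Schmidt (helper2): in a finite-dimensional algebra over a field whose only
idempotents are `0` and `1`, every element is nilpotent or a unit; a unit sum has a unit summand. -/

set_option autoImplicit false
open Polynomial

namespace Groth.Agent.Lib.Helper2.KS

/-- if `c` is a root of the minimal polynomial of `f` and the only idempotents are `0`, `1`,
then `f - c` is nilpotent -/
theorem isNilpotent_sub_of_isRoot {k A : Type*} [Field k] [Ring A]
    [Algebra k A] (hidem : ∀ e : A, e * e = e → e = 0 ∨ e = 1)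
    (f : A) (hf : IsIntegral k f) (c : k) (hc : (minpoly k f).IsRoot c) :
    IsNilpotent (f - algebraMap k A c) := by
  have hp0 : minpoly k f ≠ 0 := minpoly.ne_zero hf
  obtain ⟨q, hpq, hq⟩ :=
    Polynomial.exists_eq_pow_rootMultiplicity_mul_and_not_dvd (minpoly k f) hp0 c
  set m := (minpoly k f).rootMultiplicity c with hm
  have hcop : IsCoprime ((X - C c) ^ m) q :=
    ((Polynomial.irreducible_X_sub_C c).coprime_iff_not_dvd.2 hq).pow_left
  obtain ⟨a, b, hab⟩ := hcop
  have hpf : aeval f (minpoly k f) = 0 := minpoly.aeval k f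
  have hsum : aeval f (a * (X - C c) ^ m) + aeval f (b * q) = 1 := by
    rw [← map_add, hab, map_one]
  have hprod : aeval f (b * q) * aeval f (a * (X - C c) ^ m) = 0 := by
    rw [← map_mul, show b * q * (a * (X - C c) ^ m) = a * b * ((X - C c) ^ m * q) by ring,
      ← hpq, map_mul, hpf, mul_zero]
  have hidem_e : aeval f (b * q) * aeval f (b * q) = aeval f (b * q) := by
    have h1 : aeval f (b * q) * (aeval f (a * (X - C c) ^ m) + aeval f (b * q)) =
        aeval f (b * q) := by rw [hsum, mul_one]
    rw [mul_add, hprod, zero_add] at h1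
    exact h1
  refine ⟨m, ?_⟩
  have hpow : (f - algebraMap k A c) ^ m = aeval f ((X - C c) ^ m) := by
    simp
  rcases hidem _ hidem_e with h0 | h1
  · exfalso
    have hq0 : aeval f q = 0 := by
      have h2 : aeval f q * (aeval f (a * (X - C c) ^ m) + aeval f (b * q)) = aeval f q := by
        rw [hsum, mul_one]
      rw [h0, add_zero, ← map_mul,
        show q * (a * (X - C c) ^ m) = a * ((X - C c) ^ m * q) by ring, ← hpq, map_mul, hpf,
        mul_zero] at h2
      exact h2.symm
    have hdvd : minpoly k f ∣ q := minpoly.dvd k f hq0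
    exact hq ((Polynomial.dvd_iff_isRoot.2 hc).trans hdvd)
  · rw [hpow]
    have h2 : aeval f ((X - C c) ^ m) * aeval f (b * q) = aeval f ((X - C c) ^ m) := by
      rw [h1, mul_one]
    rw [← h2, ← map_mul, show (X - C c) ^ m * (b * q) = b * ((X - C c) ^ m * q) by ring, ← hpq,
      map_mul, hpf, mul_zero]

/-- every integral element is nilpotent or a unit if the only idempotents are `0`, `1` -/
theorem isNilpotent_or_isUnit {k A : Type*} [Field k] [Ring A]
    [Algebra k A] (hidem : ∀ e : A, e * e = e → e = 0 ∨ e = 1)
    (f : A) (hf : IsIntegral k f) : IsNilpotent f ∨ IsUnit f := by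
  by_cases h0 : (minpoly k f).IsRoot 0
  · left
    have := isNilpotent_sub_of_isRoot hidem f hf 0 h0
    simpa using this
  · right
    have hc0 : (minpoly k f).coeff 0 ≠ 0 := by
      intro h
      apply h0
      rw [Polynomial.IsRoot.def, ← Polynomial.coeff_zero_eq_eval_zero, h]
    have hpf : aeval f (minpoly k f) = 0 := minpoly.aeval k f
    have h1 : aeval f (divX (minpoly k f)) * f + algebraMap k A ((minpoly k f).coeff 0) = 0 := by
      have := congrArg (aeval f) (Polynomial.divX_mul_X_add (minpoly k f))
      rw [hpf, map_add, map_mul, aeval_X, aeval_C] at this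
      exact this
    have h2 : f * aeval f (divX (minpoly k f)) + algebraMap k A ((minpoly k f).coeff 0) = 0 := by
      have hcomm0 : Commute (aeval f (X : k[X])) (aeval f (divX (minpoly k f))) :=
        (Polynomial.commute_X (divX (minpoly k f))).map (aeval f)
      rw [aeval_X] at hcomm0
      have hcomm : aeval f (divX (minpoly k f)) * f = f * aeval f (divX (minpoly k f)) :=
        hcomm0.eq.symm
      rw [← hcomm]
      exact h1
    rw [isUnit_iff_exists]
    refine ⟨-(algebraMap k A ((minpoly k f).coeff 0)⁻¹) * aeval f (divX (minpoly k f)), ?_, ?_⟩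
    · have h3 : f * aeval f (divX (minpoly k f)) = -algebraMap k A ((minpoly k f).coeff 0) :=
        eq_neg_of_add_eq_zero_left h2
      rw [← mul_assoc, mul_neg, ← Algebra.commutes, ← neg_mul, mul_assoc, h3, neg_mul, mul_neg,
        neg_neg, ← map_mul, inv_mul_cancel₀ hc0, map_one]
    · have h3 : aeval f (divX (minpoly k f)) * f = -algebraMap k A ((minpoly k f).coeff 0) :=
        eq_neg_of_add_eq_zero_left h1
      rw [mul_assoc, h3, neg_mul, mul_neg, neg_neg, ← map_mul, inv_mul_cancel₀ hc0, map_one]

/-- in a nontrivial ring all of whose elements are nilpotent or units, a finite sum which is a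
unit has a summand which is a unit -/
theorem exists_isUnit_of_sum {R : Type*} [Ring R] [Nontrivial R]
    (hNU : ∀ a : R, IsNilpotent a ∨ IsUnit a) {ι : Type*} (s : Finset ι) (a : ι → R)
    (h : IsUnit (∑ i ∈ s, a i)) : ∃ i ∈ s, IsUnit (a i) := by
  classical
  induction s using Finset.induction_on with
  | empty =>
    rw [Finset.sum_empty] at h
    exact absurd h not_isUnit_zero
  | insert i s hi ih =>
    rw [Finset.sum_insert hi] at h
    by_cases hai : IsUnit (a i)
    · exact ⟨i, Finset.mem_insert_self i s, hai⟩
    · obtain ⟨u, hu⟩ := h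
      have hva : ¬ IsUnit ((↑u⁻¹ : R) * a i) := by
        intro hcon
        apply hai
        have : a i = (u : R) * ((↑u⁻¹ : R) * a i) := by
          rw [← mul_assoc, Units.mul_inv, one_mul]
        rw [this]
        exact u.isUnit.mul hcon
      have hnil : IsNilpotent ((↑u⁻¹ : R) * a i) := (hNU _).resolve_right hva
      have h1 : (↑u⁻¹ : R) * ∑ j ∈ s, a j = 1 - (↑u⁻¹ : R) * a i := by
        have : (↑u⁻¹ : R) * (a i + ∑ j ∈ s, a j) = 1 := by rw [← hu, Units.inv_mul]
        rw [mul_add] at this
        rw [← this]
        abel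
      have h2 : IsUnit ((↑u⁻¹ : R) * ∑ j ∈ s, a j) := by
        rw [h1]
        exact hnil.isUnit_one_sub
      have h3 : IsUnit (∑ j ∈ s, a j) := by
        have : ∑ j ∈ s, a j = (u : R) * ((↑u⁻¹ : R) * ∑ j ∈ s, a j) := by
          rw [← mul_assoc, Units.mul_inv, one_mul]
        rw [this]
        exact u.isUnit.mul h2
      obtain ⟨j, hj, hju⟩ := ih h3
      exact ⟨j, Finset.mem_insert_of_mem hj, hju⟩

end Groth.Agent.Lib.Helper2.KS
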