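import Mathlib
import Groth.Agent.Lib.Helper2.KS.Alg

/-! # Krull–Schmidt uniqueness in an abelian category (helper2) -/

set_option autoImplicit false
open CategoryTheory CategoryTheory.Limits

namespace Groth.Agent.Lib.Helper2.KS

universe w w'
variable {C : Type w} [Category.{w'} C] [Abelian C]

attribute [local instance] CategoryTheory.Abelian.hasFiniteBiproducts

theorem isIso_of_isIso_comp {P G : C} (hG : ∀ e : G ⟶ G, e ≫ e = e → e = 0 ∨ e = 𝟙 G)
    (hP : ¬ IsZero P) (a : P ⟶ G) (b : G ⟶ P) [IsIso (a ≫ b)] : IsIso a := by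
  have he : (b ≫ inv (a ≫ b) ≫ a) ≫ (b ≫ inv (a ≫ b) ≫ a) = b ≫ inv (a ≫ b) ≫ a := by
    have h1 : b ≫ inv (a ≫ b) ≫ (a ≫ b) ≫ inv (a ≫ b) ≫ a = b ≫ inv (a ≫ b) ≫ a := by
      rw [IsIso.hom_inv_id_assoc]
    simpa only [Category.assoc] using h1
  rcases hG _ he with h0 | h1
  · exfalso
    have ha : a = 0 := by
      have h2 : a = (a ≫ b) ≫ inv (a ≫ b) ≫ a := by rw [IsIso.hom_inv_id_assoc]
      rw [h2, Category.assoc, h0, comp_zero]
    apply hP
    have hz : IsIso (0 : P ⟶ P) := by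
      have h3 : a ≫ b = 0 := by rw [ha, zero_comp]
      rw [← h3]; infer_instance
    exact ((isIsoZero_iff_source_target_isZero P P).1 hz).1
  · exact ⟨⟨b ≫ inv (a ≫ b), by rw [← Category.assoc, IsIso.hom_inv_id], by
      rw [Category.assoc]; exact h1⟩⟩

/-- splitting off one summand of a finite biproduct -/
noncomputable def splitIso {m : ℕ} (Gs : Fin (m + 1) → C) (j : Fin (m + 1)) :
    ⨁ Gs ≅ Gs j ⊞ ⨁ (fun i => Gs (j.succAbove i)) where
  hom := biprod.lift (biproduct.π Gs j) (biproduct.lift fun i => biproduct.π Gs (j.succAbove i))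
  inv := biprod.desc (biproduct.ι Gs j) (biproduct.desc fun i => biproduct.ι Gs (j.succAbove i))
  hom_inv_id := by
    rw [biprod.lift_desc, biproduct.lift_desc, ← biproduct.total, Fin.sum_univ_succAbove _ j]
  inv_hom_id := by
    apply biprod.hom_ext'
    · apply biprod.hom_ext
      · simp
      · apply biproduct.hom_ext
        intro i
        simp [biproduct.ι_π_ne Gs (Fin.succAbove_ne j i).symm]
    · apply biprod.hom_ext
      · apply biproduct.hom_ext'
        intro i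
        simp [biproduct.ι_π_ne Gs (Fin.succAbove_ne j i)]
      · apply biproduct.hom_ext'
        intro i
        apply biproduct.hom_ext
        intro i'
        by_cases h : i = i'
        · subst h
          simp
        · simp [biproduct.ι_π_ne _ h,
            biproduct.ι_π_ne Gs (fun h' => h (Fin.succAbove_right_injective h'))]

theorem splitIso_hom_fst {m : ℕ} (Gs : Fin (m + 1) → C) (j : Fin (m + 1)) :
    (splitIso Gs j).hom ≫ biprod.fst = biproduct.π Gs j := by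
  simp [splitIso]

theorem cancel {m : ℕ} (P A : C) (hP : ¬ IsZero P)
    (hNU : ∀ a : End P, IsNilpotent a ∨ IsUnit a)
    (Gs : Fin (m + 1) → C) (hG : ∀ j, ∀ e : Gs j ⟶ Gs j, e ≫ e = e → e = 0 ∨ e = 𝟙 (Gs j))
    (φ : P ⊞ A ≅ ⨁ Gs) :
    ∃ j, Nonempty (P ≅ Gs j) ∧ Nonempty (A ≅ ⨁ fun i => Gs (j.succAbove i)) := by
  have hnt : Nontrivial (End P) := ⟨⟨𝟙 P, 0, fun h => hP ((IsZero.iff_id_eq_zero P).2 h)⟩⟩
  have hsum : ∑ j, ((biprod.inl ≫ φ.hom ≫ biproduct.π Gs j) ≫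
      (biproduct.ι Gs j ≫ φ.inv ≫ biprod.fst) : P ⟶ P) = 𝟙 P := by
    have h1 : (biprod.inl : P ⟶ P ⊞ A) ≫ φ.hom ≫ (∑ j, biproduct.π Gs j ≫ biproduct.ι Gs j) ≫
        φ.inv ≫ biprod.fst = 𝟙 P := by
      rw [biproduct.total]; simp
    rw [← h1]
    simp only [Preadditive.comp_sum, Preadditive.sum_comp, Category.assoc]
  let a : Fin (m + 1) → End P := fun j => (biprod.inl ≫ φ.hom ≫ biproduct.π Gs j) ≫
      (biproduct.ι Gs j ≫ φ.inv ≫ biprod.fst)
  have hunit : IsUnit (∑ j ∈ (Finset.univ : Finset (Fin (m + 1))), a j) := by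
    have h2 : (∑ j ∈ (Finset.univ : Finset (Fin (m + 1))), a j) = (1 : End P) := hsum
    rw [h2]
    exact isUnit_one
  obtain ⟨j, -, hj⟩ := exists_isUnit_of_sum hNU Finset.univ a hunit
  have hiso : IsIso ((biprod.inl ≫ φ.hom ≫ biproduct.π Gs j) ≫
      (biproduct.ι Gs j ≫ φ.inv ≫ biprod.fst)) := (isUnit_iff_isIso _).1 hj
  have hisoa : IsIso (biprod.inl ≫ φ.hom ≫ biproduct.π Gs j) :=
    isIso_of_isIso_comp (hG j) hP _ (biproduct.ι Gs j ≫ φ.inv ≫ biprod.fst)
  refine ⟨j, ⟨asIso (biprod.inl ≫ φ.hom ≫ biproduct.π Gs j)⟩, ?_⟩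
  have h3 : IsIso (biprod.inl ≫ (φ ≪≫ splitIso Gs j).hom ≫ biprod.fst) := by
    have h4 : biprod.inl ≫ (φ ≪≫ splitIso Gs j).hom ≫ biprod.fst =
        biprod.inl ≫ φ.hom ≫ biproduct.π Gs j := by
      rw [Iso.trans_hom, Category.assoc, splitIso_hom_fst]
    rw [h4]
    exact hisoa
  exact ⟨Biprod.isoElim (φ ≪≫ splitIso Gs j)⟩

end Groth.Agent.Lib.Helper2.KS
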