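import Mathlib
import Groth.Agent.Lib.Helper2.KS.Cat

/-! # Krull–Schmidt uniqueness in an abelian category, induction (helper2) -/

set_option autoImplicit false
open CategoryTheory CategoryTheory.Limits

namespace Groth.Agent.Lib.Helper2.KS

universe w w'
variable {C : Type w} [Category.{w'} C] [Abelian C]

attribute [local instance] CategoryTheory.Abelian.hasFiniteBiproducts

theorem isZero_biproduct_fin_zero (Fs : Fin 0 → C) : IsZero (⨁ Fs) := by
  rw [IsZero.iff_id_eq_zero, ← biproduct.total]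
  simp

theorem isZero_of_isZero_biproduct {n : ℕ} (Fs : Fin n → C) (h : IsZero (⨁ Fs)) (i : Fin n) :
    IsZero (Fs i) := by
  rw [IsZero.iff_id_eq_zero, ← biproduct.ι_π_self Fs i, h.eq_of_tgt (biproduct.ι Fs i) 0,
    zero_comp]

theorem unique_decomp (n : ℕ) : ∀ (m : ℕ) (Fs : Fin n → C) (Gs : Fin m → C),
    (∀ i, ¬ IsZero (Fs i)) → (∀ i, ∀ a : End (Fs i), IsNilpotent a ∨ IsUnit a) →
    (∀ j, ¬ IsZero (Gs j)) → (∀ j, ∀ e : Gs j ⟶ Gs j, e ≫ e = e → e = 0 ∨ e = 𝟙 (Gs j)) →
    Nonempty (⨁ Fs ≅ ⨁ Gs) → ∃ e : Fin n ≃ Fin m, ∀ i, Nonempty (Fs i ≅ Gs (e i)) := by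
  induction n with
  | zero =>
    intro m Fs Gs hF hNU hG hGi ⟨φ⟩
    cases m with
    | zero => exact ⟨Equiv.refl _, fun i => i.elim0⟩
    | succ m =>
      exfalso
      exact hG 0 (isZero_of_isZero_biproduct Gs
        ((isZero_biproduct_fin_zero Fs).of_iso φ.symm) 0)
  | succ n ih =>
    intro m Fs Gs hF hNU hG hGi ⟨φ⟩
    cases m with
    | zero =>
      exfalso
      exact hF 0 (isZero_of_isZero_biproduct Fs ((isZero_biproduct_fin_zero Gs).of_iso φ) 0)
    | succ m =>
      obtain ⟨j, ⟨α⟩, ⟨β⟩⟩ := cancel (Fs 0) (⨁ fun i => Fs ((0 : Fin (n + 1)).succAbove i))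
        (hF 0) (hNU 0) Gs hGi ((splitIso Fs 0).symm ≪≫ φ)
      obtain ⟨e', he'⟩ := ih m (fun i => Fs ((0 : Fin (n + 1)).succAbove i))
        (fun i => Gs (j.succAbove i))
        (fun i => hF _) (fun i => hNU _) (fun i => hG _) (fun i => hGi _) ⟨β⟩
      refine ⟨(finSuccEquiv' (0 : Fin (n + 1))).trans
        ((Equiv.optionCongr e').trans (finSuccEquiv' j).symm), ?_⟩
      intro i
      rcases Fin.eq_self_or_eq_succAbove (0 : Fin (n + 1)) i with h | ⟨i', h⟩
      · subst h
        simp only [Equiv.trans_apply, finSuccEquiv'_at, Equiv.optionCongr_apply, Option.map_none,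
          finSuccEquiv'_symm_none]
        exact ⟨α⟩
      · subst h
        simp only [Equiv.trans_apply, finSuccEquiv'_succAbove, Equiv.optionCongr_apply,
          Option.map_some, finSuccEquiv'_symm_some]
        exact he' i'

end Groth.Agent.Lib.Helper2.KS
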