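import Mathlib
import Groth.Agent.Lib.Helper2.KS.Cat2

/-! # Krull–Schmidt existence in an abelian category with a measure (helper2) -/

set_option autoImplicit false
open CategoryTheory CategoryTheory.Limits ZeroObject

namespace Groth.Agent.Lib.Helper2.KS

universe w w'
variable {C : Type w} [Category.{w'} C] [Abelian C]

attribute [local instance] CategoryTheory.Abelian.hasFiniteBiproducts

/-- indecomposable: nonzero, and one summand of every binary decomposition is zero -/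
def Indec (E : C) : Prop :=
  ¬ IsZero E ∧ ∀ A B : C, Nonempty (E ≅ A ⊞ B) → IsZero A ∨ IsZero B

theorem exists_indec_summand (P : C → Prop) (μ : C → ℕ)
    (hPs : ∀ E A B : C, P E → (E ≅ A ⊞ B) → P A ∧ P B)
    (hμ : ∀ E A B : C, P E → (E ≅ A ⊞ B) → ¬ IsZero B → μ A < μ E) :
    ∀ (d : ℕ) (E : C), μ E ≤ d → P E → ¬ IsZero E →
      ∃ (I E' : C), Indec I ∧ Nonempty (E ≅ I ⊞ E') := by
  intro d
  induction d with
  | zero =>
    intro E hd hPE hE
    by_cases hind : Indec E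
    · exact ⟨E, (0 : C), hind, ⟨isoBiprodZero (isZero_zero C)⟩⟩
    · exfalso
      unfold Indec at hind
      push_neg at hind
      obtain ⟨A, B, ⟨ε⟩, hA, hB⟩ := hind hE
      have := hμ E A B hPE ε hB
      omega
  | succ d ih =>
    intro E hd hPE hE
    by_cases hind : Indec E
    · exact ⟨E, (0 : C), hind, ⟨isoBiprodZero (isZero_zero C)⟩⟩
    · unfold Indec at hind
      push_neg at hind
      obtain ⟨A, B, ⟨ε⟩, hA, hB⟩ := hind hE
      have h1 := hμ E A B hPE ε hB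
      obtain ⟨I, A', hI, ⟨δ⟩⟩ := ih A (by omega) (hPs E A B hPE ε).1 hA
      exact ⟨I, A' ⊞ B, hI, ⟨ε ≪≫ biprod.mapIso δ (Iso.refl B) ≪≫ biprod.associator I A' B⟩⟩

theorem exists_decomp (P : C → Prop) (μ : C → ℕ)
    (hPs : ∀ E A B : C, P E → (E ≅ A ⊞ B) → P A ∧ P B)
    (hμ : ∀ E A B : C, P E → (E ≅ A ⊞ B) → ¬ IsZero B → μ A < μ E) :
    ∀ (d : ℕ) (E : C), μ E ≤ d → P E →
      ∃ (n : ℕ) (Fs : Fin n → C), (∀ i, Indec (Fs i)) ∧ Nonempty (E ≅ ⨁ Fs) := by
  intro d
  induction d with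
  | zero =>
    intro E hd hPE
    by_cases hE : IsZero E
    · exact ⟨0, fun i => i.elim0, fun i => i.elim0, ⟨hE.iso (isZero_biproduct_fin_zero _)⟩⟩
    · exfalso
      obtain ⟨I, E', hI, ⟨ε⟩⟩ := exists_indec_summand P μ hPs hμ (μ E) E le_rfl hPE hE
      have := hμ E E' I hPE (ε ≪≫ biprod.braiding I E') hI.1
      omega
  | succ d ih =>
    intro E hd hPE
    by_cases hE : IsZero E
    · exact ⟨0, fun i => i.elim0, fun i => i.elim0, ⟨hE.iso (isZero_biproduct_fin_zero _)⟩⟩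
    · obtain ⟨I, E', hI, ⟨ε⟩⟩ := exists_indec_summand P μ hPs hμ (μ E) E le_rfl hPE hE
      have h1 := hμ E E' I hPE (ε ≪≫ biprod.braiding I E') hI.1
      obtain ⟨n, Fs, hFs, ⟨δ⟩⟩ := ih E' (by omega) (hPs E I E' hPE ε).2
      refine ⟨n + 1, @Fin.cons n (fun _ => C) I Fs, ?_, ?_⟩
      · intro i
        refine Fin.cases ?_ ?_ i
        · exact hI
        · intro i'
          rw [Fin.cons_succ]
          exact hFs i'
      · refine ⟨ε ≪≫ biprod.mapIso (Iso.refl I) δ ≪≫ ?_ ≪≫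
          (splitIso (@Fin.cons n (fun _ => C) I Fs) 0).symm⟩
        exact biprod.mapIso (Iso.refl I) (biproduct.mapIso fun i => eqToIso (by
          rw [Fin.succAbove_zero, Fin.cons_succ]))

end Groth.Agent.Lib.Helper2.KS
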