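import Mathlib
import Groth.Agent.Lib.Helper2.KS.Cat2

/-! # Polynomial expressions in an object: flattening and counting (helper2) -/

set_option autoImplicit false
open CategoryTheory CategoryTheory.Limits

namespace Groth.Agent.Lib.Helper2.KS

universe w w'
variable {C : Type w} [Category.{w'} C] [Abelian C] [HasFiniteCoproducts C]

attribute [local instance] CategoryTheory.Abelian.hasFiniteBiproducts

theorem isZero_sigma {ι : Type} [Finite ι] (f : ι → C) (h : ∀ i, IsZero (f i)) :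
    IsZero (∐ f) := by
  rw [IsZero.iff_id_eq_zero]
  apply Sigma.hom_ext
  intro i
  exact (h i).eq_of_src _ _

theorem nonempty_sigma_iso_of_isZero {ι : Type} [Finite ι] (f : ι → C) (i₀ : ι)
    (h : ∀ i, i ≠ i₀ → IsZero (f i)) : Nonempty (∐ f ≅ f i₀) := by
  classical
  refine ⟨{ hom := Sigma.desc (fun i => if hi : i = i₀ then eqToHom (by rw [hi]) else 0)
            inv := Sigma.ι f i₀
            hom_inv_id := ?_
            inv_hom_id := by simp }⟩
  apply Sigma.hom_ext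
  intro i
  by_cases hi : i = i₀
  · subst hi
    simp
  · exact (h i hi).eq_of_src _ _

theorem isZero_sigma_fin (n : ℕ) (hn : n = 0) (A : C) : IsZero (∐ fun _ : Fin n => A) := by
  subst hn
  rw [IsZero.iff_id_eq_zero]
  apply Sigma.hom_ext
  intro i
  exact i.elim0

theorem nonempty_sigma_fin_one (n : ℕ) (hn : n = 1) (A : C) :
    Nonempty ((∐ fun _ : Fin n => A) ≅ A) := by
  subst hn
  exact nonempty_sigma_iso_of_isZero (fun _ : Fin 1 => A) 0 (fun i hi => absurd (Subsingleton.elim i 0) hi)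

/-- a "monomial": `P(T) ≅ T m` when `P` has the single coefficient `1` in degree `m` -/
theorem nonempty_monomial_iso (d : ℕ) (c : Fin (d + 1) → ℕ) (T : ℕ → C) (m : Fin (d + 1))
    (h1 : c m = 1) (h0 : ∀ i, i ≠ m → c i = 0) :
    Nonempty ((∐ fun i : Fin (d + 1) => ∐ fun _ : Fin (c i) => T i) ≅ T m) := by
  obtain ⟨α⟩ := nonempty_sigma_iso_of_isZero (fun i : Fin (d + 1) => ∐ fun _ : Fin (c i) => T i) m
    (fun i hi => isZero_sigma_fin (c i) (h0 i hi) (T i))
  obtain ⟨β⟩ := nonempty_sigma_fin_one (c m) h1 (T m)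
  exact ⟨α ≪≫ β⟩

/-- flattening a nested coproduct to a biproduct over `Fin n` -/
theorem nonempty_flatIso (d : ℕ) (c : Fin (d + 1) → ℕ) (T : ℕ → C) :
    Nonempty ((∐ fun i : Fin (d + 1) => ∐ fun _ : Fin (c i) => T i) ≅
      ⨁ fun t : Fin (Fintype.card (Σ i : Fin (d + 1), Fin (c i))) =>
        T (((Fintype.equivFin (Σ i : Fin (d + 1), Fin (c i))).symm t).1 : ℕ)) := by
  let ε := Fintype.equivFin (Σ i : Fin (d + 1), Fin (c i))
  let g : Fin (Fintype.card (Σ i : Fin (d + 1), Fin (c i))) → C := fun t => T ((ε.symm t).1 : ℕ)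
  refine ⟨sigmaSigmaIso (fun i : Fin (d + 1) => Fin (c i)) (fun i _ => T i) ≪≫ ?_ ≪≫
    (biproduct.isoCoproduct g).symm⟩
  exact Sigma.whiskerEquiv ε (fun p => eqToIso (by simp [g]))

theorem card_fiber (P : Polynomial ℕ) (a : ℕ) :
    Fintype.card {p : (Σ i : Fin (P.natDegree + 1), Fin (P.coeff i)) // (p.1 : ℕ) = a} =
      P.coeff a := by
  by_cases ha : a < P.natDegree + 1
  · have e : {p : (Σ i : Fin (P.natDegree + 1), Fin (P.coeff i)) // (p.1 : ℕ) = a} ≃
        Fin (P.coeff a) :=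
      (Equiv.subtypeEquivRight (fun p => by rw [Fin.ext_iff])).trans
        (Equiv.sigmaSubtype (β := fun i : Fin (P.natDegree + 1) => Fin (P.coeff i))
          (⟨a, ha⟩ : Fin (P.natDegree + 1)))
    rw [Fintype.card_congr e, Fintype.card_fin]
  · rw [Polynomial.coeff_eq_zero_of_natDegree_lt (by omega)]
    rw [Fintype.card_eq_zero_iff]
    exact ⟨fun ⟨p, hp⟩ => ha (hp ▸ p.1.2)⟩

theorem poly_eq_of_equiv (P Q : Polynomial ℕ)
    (ε : (Σ i : Fin (P.natDegree + 1), Fin (P.coeff i)) ≃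
      (Σ i : Fin (Q.natDegree + 1), Fin (Q.coeff i)))
    (h : ∀ p, ((ε p).1 : ℕ) = (p.1 : ℕ)) : P = Q := by
  ext a
  rw [← card_fiber P a, ← card_fiber Q a]
  exact Fintype.card_congr (ε.subtypeEquiv (fun p => by rw [h p]))

theorem idem_zero_or_one {R : Type*} [Ring R] (a : R) (ha : a * a = a)
    (h : IsNilpotent a ∨ IsUnit a) : a = 0 ∨ a = 1 := by
  have hid : IsIdempotentElem a := ha
  rcases h with ⟨n, hn⟩ | hu
  · left
    rw [← hid.pow_succ_eq n, pow_succ, hn, zero_mul]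
  · right
    exact (IsIdempotentElem.iff_eq_one_of_isUnit hu).1 hid

/-- Krull–Schmidt counting: if the `T i` are pairwise non-isomorphic, nonzero with local
endomorphism rings, then `P(T) ≅ Q(T)` forces `P = Q`. -/
theorem poly_eq_of_iso (T : ℕ → C) (hnz : ∀ i, ¬ IsZero (T i))
    (hNU : ∀ i, ∀ a : End (T i), IsNilpotent a ∨ IsUnit a)
    (hinj : ∀ a b, Nonempty (T a ≅ T b) → a = b)
    (P Q : Polynomial ℕ)
    (φ : (∐ fun i : Fin (P.natDegree + 1) => ∐ fun _ : Fin (P.coeff ↑i) => T ↑i) ≅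
      (∐ fun i : Fin (Q.natDegree + 1) => ∐ fun _ : Fin (Q.coeff ↑i) => T ↑i)) : P = Q := by
  obtain ⟨α⟩ := nonempty_flatIso P.natDegree (fun i => P.coeff ↑i) T
  obtain ⟨β⟩ := nonempty_flatIso Q.natDegree (fun i => Q.coeff ↑i) T
  have hidem : ∀ i, ∀ e : T i ⟶ T i, e ≫ e = e → e = 0 ∨ e = 𝟙 (T i) := by
    intro i e he
    exact idem_zero_or_one (R := End (T i)) e he (hNU i e)
  obtain ⟨e, he⟩ := unique_decomp _ _ _ _ (fun t => hnz _) (fun t => hNU _) (fun t => hnz _)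
    (fun t => hidem _) ⟨α.symm ≪≫ φ ≪≫ β⟩
  let εP := Fintype.equivFin (Σ i : Fin (P.natDegree + 1), Fin (P.coeff ↑i))
  let εQ := Fintype.equivFin (Σ i : Fin (Q.natDegree + 1), Fin (Q.coeff ↑i))
  refine poly_eq_of_equiv P Q (εP.trans (e.trans εQ.symm)) ?_
  intro p
  have h := hinj _ _ (he (εP p))
  simp only [Equiv.trans_apply]
  rw [← h]
  simp [εP]

end Groth.Agent.Lib.Helper2.KS
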