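import Mathlib
import Groth.Agent.Lib.Helper2.KS.Weil
import Groth.Agent.Lib.Helper2.KS.Exist

/-! # Multiplicities of indecomposables in a Krull–Schmidt class (helper2) -/

set_option autoImplicit false
open CategoryTheory CategoryTheory.Limits

namespace Groth.Agent.Lib.Helper2.KS

universe w w'
variable {C : Type w} [Category.{w'} C] [Abelian C] [HasFiniteCoproducts C]

attribute [local instance] CategoryTheory.Abelian.hasFiniteBiproducts

/-- `I` is a retract (direct summand) of `F` -/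
def Retract (I F : C) : Prop := ∃ (i : I ⟶ F) (r : F ⟶ I), i ≫ r = 𝟙 I

theorem Retract.trans {A B D : C} (h₁ : Retract A B) (h₂ : Retract B D) : Retract A D := by
  obtain ⟨i, r, h⟩ := h₁
  obtain ⟨i', r', h'⟩ := h₂
  exact ⟨i ≫ i', r' ≫ r, by rw [Category.assoc, reassoc_of% h', h]⟩

theorem Retract.of_iso {A B : C} (e : A ≅ B) : Retract A B := ⟨e.hom, e.inv, e.hom_inv_id⟩

theorem retract_biproduct {n : ℕ} (Fs : Fin n → C) (j : Fin n) : Retract (Fs j) (⨁ Fs) :=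
  ⟨biproduct.ι Fs j, biproduct.π Fs j, biproduct.ι_π_self Fs j⟩

/-- a retract with local endomorphism ring of a finite biproduct of objects with only trivial
idempotents is isomorphic to one of the summands -/
theorem exists_iso_of_retract_biproduct {n : ℕ} (I F : C) (hI : ¬ IsZero I)
    (hNU : ∀ a : End I, IsNilpotent a ∨ IsUnit a) (hr : Retract I F)
    (Gs : Fin n → C) (hG : ∀ j, ∀ e : Gs j ⟶ Gs j, e ≫ e = e → e = 0 ∨ e = 𝟙 (Gs j))
    (φ : F ≅ ⨁ Gs) : ∃ j, Nonempty (I ≅ Gs j) := by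
  obtain ⟨i, r, hir⟩ := hr
  have hnt : Nontrivial (End I) := ⟨⟨𝟙 I, 0, fun h => hI ((IsZero.iff_id_eq_zero I).2 h)⟩⟩
  have hsum : ∑ j, ((i ≫ φ.hom ≫ biproduct.π Gs j) ≫
      (biproduct.ι Gs j ≫ φ.inv ≫ r) : I ⟶ I) = 𝟙 I := by
    have h1 : i ≫ φ.hom ≫ (∑ j, biproduct.π Gs j ≫ biproduct.ι Gs j) ≫ φ.inv ≫ r = 𝟙 I := by
      rw [biproduct.total]; simp [hir]
    rw [← h1]
    simp only [Preadditive.comp_sum, Preadditive.sum_comp, Category.assoc]
  let a : Fin n → End I := fun j => (i ≫ φ.hom ≫ biproduct.π Gs j) ≫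
      (biproduct.ι Gs j ≫ φ.inv ≫ r)
  have hunit : IsUnit (∑ j ∈ (Finset.univ : Finset (Fin n)), a j) := by
    have h2 : (∑ j ∈ (Finset.univ : Finset (Fin n)), a j) = (1 : End I) := hsum
    rw [h2]
    exact isUnit_one
  obtain ⟨j, -, hj⟩ := exists_isUnit_of_sum hNU Finset.univ a hunit
  have hiso : IsIso ((i ≫ φ.hom ≫ biproduct.π Gs j) ≫
      (biproduct.ι Gs j ≫ φ.inv ≫ r)) := (isUnit_iff_isIso _).1 hj
  have hisoa : IsIso (i ≫ φ.hom ≫ biproduct.π Gs j) :=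
    isIso_of_isIso_comp (hG j) hI _ (biproduct.ι Gs j ≫ φ.inv ≫ r)
  exact ⟨j, ⟨asIso (i ≫ φ.hom ≫ biproduct.π Gs j)⟩⟩

section Mult

variable (P : C → Prop)

/-- `P`-indecomposable objects -/
def PI (I : C) : Prop := Indec I ∧ P I

/-- multiplicity of `I` in (a chosen `P`-indecomposable decomposition of) `F` -/
noncomputable def mult (I F : C) : ℕ := by
  classical
  exact if h : ∃ (n : ℕ) (Fs : Fin n → C), (∀ i, PI P (Fs i)) ∧ Nonempty (F ≅ ⨁ Fs) then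
    Nat.card {j : Fin h.choose // Nonempty (h.choose_spec.choose j ≅ I)} else 0

variable {P}
variable (hNU : ∀ F, PI P F → ∀ a : End F, IsNilpotent a ∨ IsUnit a)
include hNU

theorem idem_of_PI (F : C) (hF : PI P F) (e : F ⟶ F) (he : e ≫ e = e) : e = 0 ∨ e = 𝟙 F :=
  idem_zero_or_one (R := End F) e he (hNU F hF e)

theorem card_eq_mult (I F : C) (m : ℕ) (Gs : Fin m → C) (hG : ∀ j, PI P (Gs j))
    (φ : F ≅ ⨁ Gs) : Nat.card {j : Fin m // Nonempty (Gs j ≅ I)} = mult P I F := by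
  classical
  have h : ∃ (n : ℕ) (Fs : Fin n → C), (∀ i, PI P (Fs i)) ∧ Nonempty (F ≅ ⨁ Fs) :=
    ⟨m, Gs, hG, ⟨φ⟩⟩
  unfold mult
  rw [dif_pos h]
  obtain ⟨hF, ⟨ψ⟩⟩ := h.choose_spec.choose_spec
  obtain ⟨e, he⟩ := unique_decomp h.choose m h.choose_spec.choose Gs
    (fun i => (hF i).1.1) (fun i => hNU _ (hF i)) (fun j => (hG j).1.1)
    (fun j => idem_of_PI hNU _ (hG j)) ⟨ψ.symm ≪≫ φ⟩
  refine (Nat.card_congr (e.subtypeEquiv (fun i => ?_))).symm
  constructor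
  · rintro ⟨α⟩
    exact ⟨(he i).some.symm ≪≫ α⟩
  · rintro ⟨α⟩
    exact ⟨(he i).some ≪≫ α⟩

theorem card_eq_mult' (I F : C) {J : Type} [Finite J] (Gs : J → C) (hG : ∀ j, PI P (Gs j))
    (φ : F ≅ ∐ Gs) : Nat.card {j : J // Nonempty (Gs j ≅ I)} = mult P I F := by
  obtain ⟨m, ⟨ε⟩⟩ := Finite.exists_equiv_fin J
  let g : Fin m → C := fun t => Gs (ε.symm t)
  have ψ : ∐ Gs ≅ ⨁ g :=
    Sigma.whiskerEquiv ε (fun p => eqToIso (by simp [g])) ≪≫ (biproduct.isoCoproduct g).symm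
  rw [← card_eq_mult hNU I F m g (fun t => hG _) (φ ≪≫ ψ)]
  refine Nat.card_congr (ε.subtypeEquiv (fun j => ?_))
  simp [g]

theorem mult_congr (I F F' : C) (hF : ∃ (n : ℕ) (Fs : Fin n → C), (∀ i, PI P (Fs i)) ∧
    Nonempty (F ≅ ⨁ Fs)) (e : F ≅ F') : mult P I F = mult P I F' := by
  obtain ⟨n, Fs, hFs, ⟨φ⟩⟩ := hF
  rw [← card_eq_mult hNU I F n Fs hFs φ, ← card_eq_mult hNU I F' n Fs hFs (e.symm ≪≫ φ)]

end Mult

end Groth.Agent.Lib.Helper2.KS
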