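import Mathlib
import Groth.Agent.Lib.Helper2.KS.Nori1

/-! # Multiplicities: additivity and positivity (helper2) -/

set_option autoImplicit false
open CategoryTheory CategoryTheory.Limits

namespace Groth.Agent.Lib.Helper2.KS

universe w w'
variable {C : Type w} [Category.{w'} C] [Abelian C] [HasFiniteCoproducts C]

attribute [local instance] CategoryTheory.Abelian.hasFiniteBiproducts

variable {P : C → Prop}
variable (hNU : ∀ F, PI P F → ∀ a : End F, IsNilpotent a ∨ IsUnit a)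
variable (hdec : ∀ F, P F → ∃ (n : ℕ) (Fs : Fin n → C), (∀ i, PI P (Fs i)) ∧ Nonempty (F ≅ ⨁ Fs))

omit [HasFiniteCoproducts C] in
/-- the decomposition predicate -/
theorem hasDecomp_of_iso {F F' : C} (e : F ≅ F')
    (h : ∃ (n : ℕ) (Fs : Fin n → C), (∀ i, PI P (Fs i)) ∧ Nonempty (F' ≅ ⨁ Fs)) :
    ∃ (n : ℕ) (Fs : Fin n → C), (∀ i, PI P (Fs i)) ∧ Nonempty (F ≅ ⨁ Fs) := by
  obtain ⟨n, Fs, hFs, ⟨φ⟩⟩ := h
  exact ⟨n, Fs, hFs, ⟨e ≪≫ φ⟩⟩

theorem hasDecomp_sigma_PI {J : Type} [Finite J] (Gs : J → C) (hG : ∀ j, PI P (Gs j)) :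
    ∃ (n : ℕ) (Fs : Fin n → C), (∀ i, PI P (Fs i)) ∧ Nonempty (∐ Gs ≅ ⨁ Fs) := by
  obtain ⟨m, ⟨ε⟩⟩ := Finite.exists_equiv_fin J
  let g : Fin m → C := fun t => Gs (ε.symm t)
  have ψ : ∐ Gs ≅ ⨁ g :=
    Sigma.whiskerEquiv ε (fun p => eqToIso (by simp [g])) ≪≫ (biproduct.isoCoproduct g).symm
  exact ⟨m, g, fun t => hG _, ⟨ψ⟩⟩

include hdec in
theorem exists_flatten {A : Type} [Finite A] (F : A → C) (hF : ∀ a, P (F a)) :
    ∃ (n : A → ℕ) (Fs : ∀ a, Fin (n a) → C), (∀ a j, PI P (Fs a j)) ∧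
      (∀ a, Nonempty (F a ≅ ⨁ Fs a)) ∧
      Nonempty (∐ F ≅ ∐ fun p : (Σ a, Fin (n a)) => Fs p.1 p.2) := by
  choose n Fs hFs φ using fun a => hdec (F a) (hF a)
  refine ⟨n, Fs, hFs, φ, ⟨?_⟩⟩
  exact Sigma.mapIso (fun a => (φ a).some ≪≫ biproduct.isoCoproduct (Fs a)) ≪≫
      sigmaSigmaIso (fun a => Fin (n a)) (fun a j => Fs a j)

include hdec in
theorem hasDecomp_sigma {A : Type} [Finite A] (F : A → C) (hF : ∀ a, P (F a)) :
    ∃ (n : ℕ) (Fs : Fin n → C), (∀ i, PI P (Fs i)) ∧ Nonempty (∐ F ≅ ⨁ Fs) := by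
  obtain ⟨n, Fs, hFs, -, ⟨ψ⟩⟩ := exists_flatten hdec F hF
  exact hasDecomp_of_iso ψ (hasDecomp_sigma_PI (fun p : (Σ a, Fin (n a)) => Fs p.1 p.2)
    (fun p => hFs p.1 p.2))

include hNU hdec in
theorem mult_sigma (I : C) {A : Type} [Fintype A] (F : A → C) (hF : ∀ a, P (F a)) :
    mult P I (∐ F) = ∑ a, mult P I (F a) := by
  obtain ⟨n, Fs, hFs, φ, ⟨ψ⟩⟩ := exists_flatten hdec F hF
  rw [← card_eq_mult' hNU I (∐ F) (fun p : (Σ a, Fin (n a)) => Fs p.1 p.2)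
    (fun p => hFs p.1 p.2) ψ]
  have e : {p : (Σ a, Fin (n a)) // Nonempty (Fs p.1 p.2 ≅ I)} ≃
      Σ a, {j : Fin (n a) // Nonempty (Fs a j ≅ I)} :=
    { toFun := fun p => ⟨p.1.1, ⟨p.1.2, p.2⟩⟩
      invFun := fun q => ⟨⟨q.1, q.2.1⟩, q.2.2⟩
      left_inv := fun p => rfl
      right_inv := fun q => rfl }
  rw [Nat.card_congr e, Nat.card_sigma]
  refine Finset.sum_congr rfl (fun a _ => ?_)
  exact card_eq_mult hNU I (F a) (n a) (Fs a) (hFs a) (φ a).some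

include hNU hdec in
theorem mult_poly (I : C) (d : ℕ) (c : Fin (d + 1) → ℕ) (T : Fin (d + 1) → C)
    (hT : ∀ i, P (T i)) :
    mult P I (∐ fun i : Fin (d + 1) => ∐ fun _ : Fin (c i) => T i) =
      ∑ i : Fin (d + 1), c i * mult P I (T i) := by
  let ψ := sigmaSigmaIso (fun i : Fin (d + 1) => Fin (c i)) (fun i _ => T i)
  have hd := hasDecomp_sigma hdec (fun p : (Σ i : Fin (d + 1), Fin (c i)) => T p.1)
    (fun p => hT p.1)
  rw [mult_congr hNU I _ _ (hasDecomp_of_iso ψ hd) ψ,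
    mult_sigma hNU hdec I (fun p : (Σ i : Fin (d + 1), Fin (c i)) => T p.1) (fun p => hT p.1),
    Fintype.sum_sigma]
  refine Finset.sum_congr rfl (fun i _ => ?_)
  simp

include hNU hdec in
theorem mult_pos_iff (I F : C) (hI : PI P I) (hF : P F) : 0 < mult P I F ↔ Retract I F := by
  obtain ⟨n, Fs, hFs, ⟨φ⟩⟩ := hdec F hF
  rw [← card_eq_mult hNU I F n Fs hFs φ]
  constructor
  · intro h
    obtain ⟨⟨⟨j, ⟨α⟩⟩⟩, -⟩ := Nat.card_pos_iff.1 h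
    exact (Retract.of_iso α.symm).trans ((retract_biproduct Fs j).trans (Retract.of_iso φ.symm))
  · intro hr
    obtain ⟨j, ⟨α⟩⟩ := exists_iso_of_retract_biproduct I F hI.1.1 (hNU I hI) hr Fs
      (fun j => idem_of_PI hNU _ (hFs j)) φ
    exact Nat.card_pos_iff.2 ⟨⟨⟨j, ⟨α.symm⟩⟩⟩, inferInstance⟩

include hNU in
/-- a `P`-indecomposable retract of `F` is isomorphic to a member of any decomposition of `F` -/
theorem exists_iso_of_retract (I F : C) (hI : PI P I) (hr : Retract I F)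
    (n : ℕ) (Fs : Fin n → C) (hFs : ∀ i, PI P (Fs i)) (φ : F ≅ ⨁ Fs) :
    ∃ j, Nonempty (I ≅ Fs j) :=
  exists_iso_of_retract_biproduct I F hI.1.1 (hNU I hI) hr Fs
      (fun j => idem_of_PI hNU _ (hFs j)) φ

end Groth.Agent.Lib.Helper2.KS
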