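import Mathlib
import Groth.Agent.Lib.Helper2.KS.Nori2

/-! # Weil-finite objects have finitely many indecomposable components (helper2) -/

set_option autoImplicit false
open CategoryTheory CategoryTheory.Limits

namespace Groth.Agent.Lib.Helper2.KS

universe w w'
variable {C : Type w} [Category.{w'} C] [Abelian C] [HasFiniteCoproducts C]

attribute [local instance] CategoryTheory.Abelian.hasFiniteBiproducts

/-- `p(T)`, shifted by `j`: the coproduct over `i` of `p_i` copies of `T (i + j)` -/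
noncomputable def polyObj (p : Polynomial ℕ) (T : ℕ → C) (j : ℕ) : C :=
  ∐ fun i : Fin (p.natDegree + 1) => ∐ fun _ : Fin (p.coeff ↑i) => T (↑i + j)

section Shift

variable (T : ℕ → C) (G : C ⥤ C) [PreservesColimitsOfSize.{0, 0} G]
  (hG : ∀ n, Nonempty (G.obj (T n) ≅ T (n + 1)))

include hG in
theorem shift_iso (p : Polynomial ℕ) (j : ℕ) :
    Nonempty (G.obj (polyObj p T j) ≅ polyObj p T (j + 1)) := by
  unfold polyObj
  exact ⟨PreservesCoproduct.iso G _ ≪≫ Sigma.mapIso (fun i =>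
    PreservesCoproduct.iso G _ ≪≫ Sigma.mapIso (fun _ => (hG (↑i + j)).some))⟩

include hG in
theorem shift_all (p q : Polynomial ℕ) (h : Nonempty (polyObj p T 0 ≅ polyObj q T 0)) :
    ∀ j, Nonempty (polyObj p T j ≅ polyObj q T j)
  | 0 => h
  | j + 1 => by
    obtain ⟨e⟩ := shift_all p q h j
    exact ⟨(shift_iso T G hG p j).some.symm ≪≫ G.mapIso e ≪≫ (shift_iso T G hG q j).some⟩

end Shift

theorem sum_coeff_range (p : Polynomial ℕ) (D : ℕ) (hD : p.natDegree ≤ D) (μ : ℕ → ℕ) :
    ∑ i ∈ Finset.range (p.natDegree + 1), p.coeff i * μ i =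
      ∑ i ∈ Finset.range (D + 1), p.coeff i * μ i := by
  refine Finset.sum_subset (Finset.range_subset_range.2 (by omega)) (fun i _ hi => ?_)
  rw [Finset.mem_range] at hi
  rw [Polynomial.coeff_eq_zero_of_natDegree_lt (by omega), zero_mul]

section Main

variable {P : C → Prop}
variable (hNU : ∀ F, PI P F → ∀ a : End F, IsNilpotent a ∨ IsUnit a)
variable (hdec : ∀ F, P F → ∃ (n : ℕ) (Fs : Fin n → C), (∀ i, PI P (Fs i)) ∧ Nonempty (F ≅ ⨁ Fs))
variable (T : ℕ → C) (hT : ∀ n, P (T n))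

include hNU hdec hT in
theorem mult_polyObj (I : C) (p : Polynomial ℕ) (j : ℕ) (D : ℕ) (hD : p.natDegree ≤ D) :
    mult P I (polyObj p T j) = ∑ i ∈ Finset.range (D + 1), p.coeff i * mult P I (T (i + j)) := by
  unfold polyObj
  rw [mult_poly hNU hdec I p.natDegree (fun i => p.coeff ↑i) (fun i => T (↑i + j))
    (fun i => hT _),
    Fin.sum_univ_eq_sum_range (fun i => p.coeff i * mult P I (T (i + j))) (p.natDegree + 1)]
  exact sum_coeff_range p D hD (fun i => mult P I (T (i + j)))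

include hdec hT in
theorem hasDecomp_polyObj (p : Polynomial ℕ) (j : ℕ) :
    ∃ (n : ℕ) (Fs : Fin n → C), (∀ i, PI P (Fs i)) ∧ Nonempty (polyObj p T j ≅ ⨁ Fs) := by
  unfold polyObj
  let ψ := sigmaSigmaIso (fun i : Fin (p.natDegree + 1) => Fin (p.coeff ↑i))
    (fun i _ => T (↑i + j))
  exact hasDecomp_of_iso ψ (hasDecomp_sigma hdec
    (fun q : (Σ i : Fin (p.natDegree + 1), Fin (p.coeff ↑i)) => T (↑q.1 + j)) (fun q => hT _))

include hNU hdec hT in
theorem exists_lower (p q : Polynomial ℕ) (m : ℕ) (hm : q.coeff m < p.coeff m)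
    (hhigh : ∀ i, m < i → p.coeff i = q.coeff i)
    (hiso : ∀ j, Nonempty (polyObj p T j ≅ polyObj q T j)) (I : C) (j : ℕ)
    (hpos : 0 < mult P I (T (m + j))) : ∃ i, i < m ∧ 0 < mult P I (T (i + j)) := by
  by_contra hcon
  push_neg at hcon
  have hzero : ∀ i, i < m → mult P I (T (i + j)) = 0 := fun i hi => Nat.le_zero.1 (hcon i hi)
  obtain ⟨e⟩ := hiso j
  have h1 := mult_congr hNU I _ _ (hasDecomp_polyObj hdec T hT p j) e
  set D := max (max p.natDegree q.natDegree) m with hD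
  rw [mult_polyObj hNU hdec T hT I p j D (by omega),
    mult_polyObj hNU hdec T hT I q j D (by omega)] at h1
  have hmem : m ∈ Finset.range (D + 1) := Finset.mem_range.2 (by omega)
  rw [← Finset.add_sum_erase _ _ hmem, ← Finset.add_sum_erase _ _ hmem] at h1
  have h2 : ∑ i ∈ (Finset.range (D + 1)).erase m, p.coeff i * mult P I (T (i + j)) =
      ∑ i ∈ (Finset.range (D + 1)).erase m, q.coeff i * mult P I (T (i + j)) := by
    refine Finset.sum_congr rfl (fun i hi => ?_)
    have hne : i ≠ m := (Finset.mem_erase.1 hi).1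
    rcases lt_or_gt_of_ne hne with h | h
    · rw [hzero i h, mul_zero, mul_zero]
    · rw [hhigh i h]
  rw [h2] at h1
  have h3 := Nat.add_right_cancel h1
  have h4 := Nat.eq_of_mul_eq_mul_right hpos h3
  omega

include hNU hdec hT in
theorem exists_lower' (p q : Polynomial ℕ) (m : ℕ) (hm : q.coeff m < p.coeff m)
    (hhigh : ∀ i, m < i → p.coeff i = q.coeff i)
    (hiso : ∀ j, Nonempty (polyObj p T j ≅ polyObj q T j)) (I : C) :
    ∀ n, 0 < mult P I (T n) → ∃ n', n' < m ∧ 0 < mult P I (T n') := by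
  intro n
  induction n using Nat.strong_induction_on with
  | _ n ih =>
    intro hpos
    by_cases hn : n < m
    · exact ⟨n, hn, hpos⟩
    · obtain ⟨j, rfl⟩ := Nat.exists_eq_add_of_le (Nat.le_of_not_lt hn)
      obtain ⟨i, hi, hpos'⟩ := exists_lower hNU hdec T hT p q m hm hhigh hiso I j hpos
      exact ih (i + j) (by omega) hpos'

/-- the top index where two distinct polynomials differ -/
theorem exists_top_diff (p q : Polynomial ℕ) (hpq : p ≠ q) :
    ∃ m, p.coeff m ≠ q.coeff m ∧ ∀ i, m < i → p.coeff i = q.coeff i := by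
  classical
  have hne : ((Finset.range (max p.natDegree q.natDegree + 1)).filter
      (fun i => p.coeff i ≠ q.coeff i)).Nonempty := by
    by_contra h
    rw [Finset.not_nonempty_iff_eq_empty] at h
    apply hpq
    ext i
    by_contra hi
    by_cases hir : i < max p.natDegree q.natDegree + 1
    · have : i ∈ (Finset.range (max p.natDegree q.natDegree + 1)).filter
          (fun i => p.coeff i ≠ q.coeff i) := Finset.mem_filter.2 ⟨Finset.mem_range.2 hir, hi⟩
      rw [h] at this
      simp at this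
    · apply hi
      rw [Polynomial.coeff_eq_zero_of_natDegree_lt (by omega),
        Polynomial.coeff_eq_zero_of_natDegree_lt (by omega)]
  refine ⟨Finset.max' _ hne, (Finset.mem_filter.1 (Finset.max'_mem _ hne)).2, fun i hi => ?_⟩
  by_contra hcon
  by_cases hir : i < max p.natDegree q.natDegree + 1
  · have hmem : i ∈ (Finset.range (max p.natDegree q.natDegree + 1)).filter
        (fun i => p.coeff i ≠ q.coeff i) := Finset.mem_filter.2 ⟨Finset.mem_range.2 hir, hcon⟩
    have := Finset.le_max' _ i hmem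
    omega
  · apply hcon
    rw [Polynomial.coeff_eq_zero_of_natDegree_lt (by omega),
      Polynomial.coeff_eq_zero_of_natDegree_lt (by omega)]

variable (G : C ⥤ C) [PreservesColimitsOfSize.{0, 0} G]
  (hG : ∀ n, Nonempty (G.obj (T n) ≅ T (n + 1)))

include hNU hdec hT hG in
/-- **Finiteness of components**: if `p(T) ≅ q(T)` with `p ≠ q`, there is a bound `m` such that
every `P`-indecomposable retract of some `T n` is a retract of some `T n'` with `n' < m`. -/
theorem exists_bound (p q : Polynomial ℕ) (hpq : p ≠ q)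
    (h : Nonempty (polyObj p T 0 ≅ polyObj q T 0)) :
    ∃ m, ∀ I, PI P I → ∀ n, Retract I (T n) → ∃ n', n' < m ∧ Retract I (T n') := by
  obtain ⟨m, hm, hhigh⟩ := exists_top_diff p q hpq
  refine ⟨m, fun I hI n hr => ?_⟩
  have hpos : 0 < mult P I (T n) := (mult_pos_iff hNU hdec I (T n) hI (hT n)).2 hr
  rcases lt_or_gt_of_ne hm with hlt | hgt
  · obtain ⟨n', hn', hpos'⟩ := exists_lower' hNU hdec T hT q p m hlt
      (fun i hi => (hhigh i hi).symm)
      (fun j => ⟨((shift_all T G hG p q h j).some).symm⟩) I n hpos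
    exact ⟨n', hn', (mult_pos_iff hNU hdec I (T n') hI (hT n')).1 hpos'⟩
  · obtain ⟨n', hn', hpos'⟩ := exists_lower' hNU hdec T hT p q m hgt hhigh
      (fun j => shift_all T G hG p q h j) I n hpos
    exact ⟨n', hn', (mult_pos_iff hNU hdec I (T n') hI (hT n')).1 hpos'⟩

include hNU hdec hT hG in
/-- the covering list -/
theorem exists_cover (p q : Polynomial ℕ) (hpq : p ≠ q)
    (h : Nonempty (polyObj p T 0 ≅ polyObj q T 0)) :
    ∃ (N : ℕ) (S : Fin N → C), (∀ s, PI P (S s)) ∧
      ∀ I, PI P I → ∀ n, Retract I (T n) → ∃ s, Nonempty (I ≅ S s) := by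
  obtain ⟨m, hm⟩ := exists_bound hNU hdec T hT G hG p q hpq h
  choose k Fs hFs φ using fun n' : Fin m => hdec (T n') (hT n')
  obtain ⟨N, ⟨ε⟩⟩ := Finite.exists_equiv_fin (Σ n' : Fin m, Fin (k n'))
  refine ⟨N, fun s => Fs (ε.symm s).1 (ε.symm s).2, fun s => hFs _ _, fun I hI n hr => ?_⟩
  obtain ⟨n', hn', hr'⟩ := hm I hI n hr
  obtain ⟨j, ⟨α⟩⟩ := exists_iso_of_retract hNU I (T n') hI hr' (k ⟨n', hn'⟩) (Fs ⟨n', hn'⟩)
    (hFs ⟨n', hn'⟩) (φ ⟨n', hn'⟩).some
  refine ⟨ε ⟨⟨n', hn'⟩, j⟩, ⟨α ≪≫ eqToIso ?_⟩⟩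
  show (fun p : (Σ n' : Fin m, Fin (k n')) => Fs p.1 p.2) ⟨⟨n', hn'⟩, j⟩ =
    (fun p : (Σ n' : Fin m, Fin (k n')) => Fs p.1 p.2) (ε.symm (ε ⟨⟨n', hn'⟩, j⟩))
  rw [Equiv.symm_apply_apply]

end Main

end Groth.Agent.Lib.Helper2.KS
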