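import Mathlib
import Groth.Agent.Lib.Helper2.KS.Nori3

/-! # Objects whose powers are covered by finitely many objects are Weil-finite (helper2) -/

set_option autoImplicit false
open CategoryTheory CategoryTheory.Limits

namespace Groth.Agent.Lib.Helper2.KS

universe w w'
variable {C : Type w} [Category.{w'} C] [Abelian C] [HasFiniteCoproducts C]

attribute [local instance] CategoryTheory.Abelian.hasFiniteBiproducts

/-- `N + 1` vectors in `ℤ^N` satisfy a nontrivial integer relation -/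
theorem exists_int_relation (N : ℕ) (v : ℕ → Fin N → ℕ) :
    ∃ a : ℕ → ℤ, (∃ n, n ≤ N ∧ a n ≠ 0) ∧
      ∀ s, ∑ n ∈ Finset.range (N + 1), a n * (v n s : ℤ) = 0 := by
  let w : Fin (N + 1) → (Fin N → ℤ) := fun n s => (v n s : ℤ)
  have hnot : ¬ LinearIndependent ℤ w := by
    intro hli
    have := hli.fintype_card_le_finrank
    rw [Fintype.card_fin, Module.finrank_fin_fun] at this
    omega
  obtain ⟨g, hg, i₀, hi₀⟩ := Fintype.not_linearIndependent_iff.1 hnot
  refine ⟨fun n => if h : n < N + 1 then g ⟨n, h⟩ else 0, ⟨i₀, by omega, ?_⟩, fun s => ?_⟩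
  · simp only [i₀.2, dif_pos]
    exact hi₀
  · have h1 := congrFun hg s
    simp only [Finset.sum_apply, Pi.smul_apply, smul_eq_mul, Pi.zero_apply, w] at h1
    rw [← Fin.sum_univ_eq_sum_range
      (fun n => (if h : n < N + 1 then g ⟨n, h⟩ else 0) * (v n s : ℤ)) (N + 1)]
    refine Eq.trans (Finset.sum_congr rfl (fun n _ => ?_)) h1
    simp only [n.2, dif_pos, Fin.eta]

/-- the polynomial with coefficients `(b n)` for `n ≤ N` -/
noncomputable def polyOf (N : ℕ) (b : ℕ → ℕ) : Polynomial ℕ :=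
  ∑ n ∈ Finset.range (N + 1), Polynomial.monomial n (b n)

theorem coeff_polyOf (N : ℕ) (b : ℕ → ℕ) (i : ℕ) :
    (polyOf N b).coeff i = if i < N + 1 then b i else 0 := by
  unfold polyOf
  rw [Polynomial.finsetSum_coeff]
  simp only [Polynomial.coeff_monomial]
  rw [Finset.sum_ite_eq' (Finset.range (N + 1)) i b]
  simp only [Finset.mem_range]

theorem natDegree_polyOf_le (N : ℕ) (b : ℕ → ℕ) : (polyOf N b).natDegree ≤ N := by
  rw [Polynomial.natDegree_le_iff_coeff_eq_zero]
  intro i hi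
  rw [coeff_polyOf, if_neg (by omega)]

section Cover

variable (T : ℕ → C) {N : ℕ} (S : Fin N → C) (k : ℕ → ℕ) (c : ∀ n, Fin (k n) → Fin N)
  (φ : ∀ n, T n ≅ ⨁ fun j => S (c n j))

/-- index type of the flattened `p(T)` -/
abbrev JIdx (p : Polynomial ℕ) : Type :=
  Σ i : Fin (p.natDegree + 1), Σ _ : Fin (p.coeff ↑i), Fin (k ↑i)

/-- label of an index -/
def γIdx (p : Polynomial ℕ) : JIdx k p → Fin N := fun q => c ↑q.1 q.2.2

include φ in
theorem nonempty_flatten (p : Polynomial ℕ) :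
    Nonempty ((∐ fun i : Fin (p.natDegree + 1) => ∐ fun _ : Fin (p.coeff ↑i) => T ↑i) ≅
      ∐ fun q : JIdx k p => S (γIdx k c p q)) := by
  refine ⟨Sigma.mapIso (fun i => Sigma.mapIso (fun _ => φ ↑i ≪≫ biproduct.isoCoproduct _)) ≪≫
    Sigma.mapIso (fun i => sigmaSigmaIso (fun _ : Fin (p.coeff ↑i) => Fin (k ↑i))
      (fun _ j => S (c ↑i j))) ≪≫
    sigmaSigmaIso (fun i : Fin (p.natDegree + 1) => Σ _ : Fin (p.coeff ↑i), Fin (k ↑i))
      (fun i r => S (c ↑i r.2))⟩

theorem card_fiber_JIdx (p : Polynomial ℕ) (hp : p.natDegree ≤ N) (s : Fin N) :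
    Nat.card {q : JIdx k p // γIdx k c p q = s} =
      ∑ i ∈ Finset.range (N + 1), p.coeff i * Nat.card {j : Fin (k i) // c i j = s} := by
  have e : {q : JIdx k p // γIdx k c p q = s} ≃
      Σ i : Fin (p.natDegree + 1), Σ _ : Fin (p.coeff ↑i), {j : Fin (k ↑i) // c ↑i j = s} :=
    { toFun := fun q => ⟨q.1.1, q.1.2.1, ⟨q.1.2.2, q.2⟩⟩
      invFun := fun r => ⟨⟨r.1, r.2.1, r.2.2.1⟩, r.2.2.2⟩
      left_inv := fun q => rfl
      right_inv := fun r => rfl }
  rw [Nat.card_congr e, Nat.card_sigma]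
  simp only [Nat.card_sigma, Finset.sum_const, Finset.card_univ, Fintype.card_fin, smul_eq_mul]
  rw [Fin.sum_univ_eq_sum_range
    (fun i => p.coeff i * Nat.card {j : Fin (k i) // c i j = s}) (p.natDegree + 1)]
  exact sum_coeff_range p N hp (fun i => Nat.card {j : Fin (k i) // c i j = s})

include φ in
/-- **Covered ⇒ Weil-finite**. -/
theorem weilFinite_of_cover :
    ∃ P Q : Polynomial ℕ, P ≠ Q ∧
      Nonempty ((∐ fun i : Fin (P.natDegree + 1) => ∐ fun _ : Fin (P.coeff ↑i) => T ↑i) ≅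
        (∐ fun i : Fin (Q.natDegree + 1) => ∐ fun _ : Fin (Q.coeff ↑i) => T ↑i)) := by
  obtain ⟨a, ⟨n₀, hn₀, han₀⟩, hrel⟩ := exists_int_relation N
    (fun n s => Nat.card {j : Fin (k n) // c n j = s})
  let P := polyOf N (fun n => (a n).toNat)
  let Q := polyOf N (fun n => (-a n).toNat)
  have hP : P.natDegree ≤ N := natDegree_polyOf_le N _
  have hQ : Q.natDegree ≤ N := natDegree_polyOf_le N _
  refine ⟨P, Q, ?_, ?_⟩
  · intro h
    have h1 := congrArg (fun p => Polynomial.coeff p n₀) h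
    simp only [P, Q, coeff_polyOf, if_pos (Nat.lt_succ_of_le hn₀)] at h1
    omega
  · have hcard : ∀ s, Nat.card {q : JIdx k P // γIdx k c P q = s} =
        Nat.card {q : JIdx k Q // γIdx k c Q q = s} := by
      intro s
      rw [card_fiber_JIdx k c P hP s, card_fiber_JIdx k c Q hQ s]
      have h2 := hrel s
      have h3 : (∑ i ∈ Finset.range (N + 1), ((P.coeff i * Nat.card {j : Fin (k i) // c i j = s} : ℕ) : ℤ))
          - ∑ i ∈ Finset.range (N + 1), ((Q.coeff i * Nat.card {j : Fin (k i) // c i j = s} : ℕ) : ℤ)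
          = 0 := by
        rw [← Finset.sum_sub_distrib, ← h2]
        refine Finset.sum_congr rfl (fun i hi => ?_)
        have hi' : i < N + 1 := Finset.mem_range.1 hi
        simp only [P, Q, coeff_polyOf, if_pos hi', Nat.cast_mul]
        rw [← sub_mul]
        congr 1
        omega
      have h4 : ((∑ i ∈ Finset.range (N + 1), P.coeff i * Nat.card {j : Fin (k i) // c i j = s} : ℕ) : ℤ)
          = ((∑ i ∈ Finset.range (N + 1), Q.coeff i * Nat.card {j : Fin (k i) // c i j = s} : ℕ) : ℤ) := by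
        rw [Nat.cast_sum, Nat.cast_sum]
        exact sub_eq_zero.1 h3
      exact_mod_cast h4
    have e : ∀ s, {q : JIdx k P // γIdx k c P q = s} ≃ {q : JIdx k Q // γIdx k c Q q = s} :=
      fun s => (Finite.card_eq.1 (hcard s)).some
    let ε : JIdx k P ≃ JIdx k Q :=
      (Equiv.sigmaFiberEquiv (γIdx k c P)).symm.trans
        ((Equiv.sigmaCongrRight e).trans (Equiv.sigmaFiberEquiv (γIdx k c Q)))
    have hε : ∀ q, γIdx k c Q (ε q) = γIdx k c P q := by
      intro q
      exact (e (γIdx k c P q) ⟨q, rfl⟩).2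
    obtain ⟨α⟩ := nonempty_flatten T S k c φ P
    obtain ⟨β⟩ := nonempty_flatten T S k c φ Q
    exact ⟨α ≪≫ Sigma.whiskerEquiv ε (fun q => eqToIso (congrArg S (hε q))) ≪≫ β.symm⟩

end Cover

end Groth.Agent.Lib.Helper2.KS
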