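import Mathlib
import Groth.Agent.Lib.Helper2.KS.Nori1

/-! # Retracts with local endomorphism ring of direct sums (helper2) -/

set_option autoImplicit false
open CategoryTheory CategoryTheory.Limits

namespace Groth.Agent.Lib.Helper2.KS

universe w w'
variable {C : Type w} [Category.{w'} C] [Abelian C]

attribute [local instance] CategoryTheory.Abelian.hasFiniteBiproducts

theorem Retract.of_isIso_comp {I U : C} (a : I ⟶ U) (b : U ⟶ I) [IsIso (a ≫ b)] : Retract I U :=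
  ⟨a, b ≫ inv (a ≫ b), by rw [← Category.assoc, IsIso.hom_inv_id]⟩

/-- a retract with local endomorphism ring of a finite biproduct is a retract of a summand -/
theorem exists_retract_of_retract_biproduct {n : ℕ} (I F : C) (hI : ¬ IsZero I)
    (hNU : ∀ a : End I, IsNilpotent a ∨ IsUnit a) (hr : Retract I F)
    (Gs : Fin n → C) (φ : F ≅ ⨁ Gs) : ∃ j, Retract I (Gs j) := by
  obtain ⟨i, r, hir⟩ := hr
  have hnt : Nontrivial (End I) := ⟨⟨𝟙 I, 0, fun h => hI ((IsZero.iff_id_eq_zero I).2 h)⟩⟩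
  have hsum : ∑ j, ((i ≫ φ.hom ≫ biproduct.π Gs j) ≫
      (biproduct.ι Gs j ≫ φ.inv ≫ r) : I ⟶ I) = 𝟙 I := by
    have h1 : i ≫ φ.hom ≫ (∑ j, biproduct.π Gs j ≫ biproduct.ι Gs j) ≫ φ.inv ≫ r = 𝟙 I := by
      rw [biproduct.total]; simp [hir]
    rw [← h1]
    simp only [Preadditive.comp_sum, Preadditive.sum_comp, Category.assoc]
  let a : Fin n → End I := fun j => (i ≫ φ.hom ≫ biproduct.π Gs j) ≫
      (biproduct.ι Gs j ≫ φ.inv ≫ r)
  have hunit : IsUnit (∑ j ∈ (Finset.univ : Finset (Fin n)), a j) := by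
    have h2 : (∑ j ∈ (Finset.univ : Finset (Fin n)), a j) = (1 : End I) := hsum
    rw [h2]
    exact isUnit_one
  obtain ⟨j, -, hj⟩ := exists_isUnit_of_sum hNU Finset.univ a hunit
  have hiso : IsIso ((i ≫ φ.hom ≫ biproduct.π Gs j) ≫
      (biproduct.ι Gs j ≫ φ.inv ≫ r)) := (isUnit_iff_isIso _).1 hj
  exact ⟨j, Retract.of_isIso_comp (i ≫ φ.hom ≫ biproduct.π Gs j) (biproduct.ι Gs j ≫ φ.inv ≫ r)⟩

/-- binary version -/
theorem retract_or_of_retract_biprod (I F U V : C) (hI : ¬ IsZero I)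
    (hNU : ∀ a : End I, IsNilpotent a ∨ IsUnit a) (hr : Retract I F) (φ : F ≅ U ⊞ V) :
    Retract I U ∨ Retract I V := by
  obtain ⟨i, r, hir⟩ := hr
  have hnt : Nontrivial (End I) := ⟨⟨𝟙 I, 0, fun h => hI ((IsZero.iff_id_eq_zero I).2 h)⟩⟩
  let a : Bool → End I := fun b => if b then
    ((i ≫ φ.hom ≫ biprod.fst) ≫ (biprod.inl ≫ φ.inv ≫ r) : I ⟶ I) else
    ((i ≫ φ.hom ≫ biprod.snd) ≫ (biprod.inr ≫ φ.inv ≫ r) : I ⟶ I)
  have hsum : ((i ≫ φ.hom ≫ biprod.fst) ≫ (biprod.inl ≫ φ.inv ≫ r) : I ⟶ I) +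
      ((i ≫ φ.hom ≫ biprod.snd) ≫ (biprod.inr ≫ φ.inv ≫ r) : I ⟶ I) = 𝟙 I := by
    have h1 : i ≫ φ.hom ≫ (biprod.fst ≫ biprod.inl + biprod.snd ≫ biprod.inr) ≫ φ.inv ≫ r
        = 𝟙 I := by
      rw [biprod.total]; simp [hir]
    rw [← h1]
    simp only [Preadditive.comp_add, Preadditive.add_comp, Category.assoc]
  have hunit : IsUnit (∑ b ∈ (Finset.univ : Finset Bool), a b) := by
    have h2 : (∑ b ∈ (Finset.univ : Finset Bool), a b) = (1 : End I) := by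
      rw [Fintype.sum_bool]
      exact hsum
    rw [h2]
    exact isUnit_one
  obtain ⟨b, -, hb⟩ := exists_isUnit_of_sum hNU Finset.univ a hunit
  cases b with
  | true =>
    left
    have hiso : IsIso ((i ≫ φ.hom ≫ biprod.fst) ≫ (biprod.inl ≫ φ.inv ≫ r)) :=
      (isUnit_iff_isIso _).1 hb
    exact Retract.of_isIso_comp (i ≫ φ.hom ≫ biprod.fst) (biprod.inl ≫ φ.inv ≫ r)
  | false =>
    right
    have hiso : IsIso ((i ≫ φ.hom ≫ biprod.snd) ≫ (biprod.inr ≫ φ.inv ≫ r)) :=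
      (isUnit_iff_isIso _).1 hb
    exact Retract.of_isIso_comp (i ≫ φ.hom ≫ biprod.snd) (biprod.inr ≫ φ.inv ≫ r)

end Groth.Agent.Lib.Helper2.KS
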