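import Groth.Agent.Lib.Helper2.KS.Exist
import Groth.Agent.Lib.Helper2.DegAdd.EndFin2
import Groth.Agent.Lib.Helper2.DegAdd.Fitting2
import Groth.Agent.Lib.Helper29.QCohLocFree
import Groth.Agent.Lib.Helper29.QCohCrit

/-! # Krull–Schmidt for coherent modules on a proper scheme over a field (helper2) -/

set_option autoImplicit false
universe u
open CategoryTheory CategoryTheory.Limits AlgebraicGeometry

namespace Groth.Agent.Lib.Helper2.KS

attribute [local instance] CategoryTheory.Abelian.hasFiniteBiproducts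

variable {X : Scheme.{u}}

theorem isCoh_of_retract {M F : X.Modules} (i : M ⟶ F) (r : F ⟶ M) (h : i ≫ r = 𝟙 M)
    (hF : Coh.IsCoh F) : Coh.IsCoh M := by
  have := hF.1
  have := hF.2
  have hq : M.IsQuasicoherent := Groth.Agent.Lib.Helper29.QCoh.isQuasicoherent_of_retract i r h
  have hepi : Epi r := SplitEpi.epi ⟨i, h⟩
  exact ⟨hq, Groth.Agent.Lib.Helper29.QCoh.isFiniteType_of_epi r⟩

theorem isCoh_summands {E A B : X.Modules} (hE : Coh.IsCoh E) (ε : E ≅ A ⊞ B) :
    Coh.IsCoh A ∧ Coh.IsCoh B :=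
  ⟨isCoh_of_retract (biprod.inl ≫ ε.inv) (ε.hom ≫ biprod.fst) (by simp) hE,
   isCoh_of_retract (biprod.inr ≫ ε.inv) (ε.hom ≫ biprod.snd) (by simp) hE⟩

section Proper
variable (k : Type u) [Field k] [X.Over (Spec (CommRingCat.of k))]
  [IsProper (X ↘ Spec (CommRingCat.of k))]

theorem finrank_end_lt {E A B : X.Modules} (hE : Coh.IsCoh E) (ε : E ≅ A ⊞ B)
    (hB : ¬ IsZero B) : Module.finrank k (End A) < Module.finrank k (End E) := by
  have hfinE : Module.Finite k (End E) :=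
    Groth.Agent.Lib.Helper2.DegAdd.finite_hom k E E hE hE
  let T : End A →ₗ[k] End E :=
    { toFun := fun a => ε.hom ≫ (biprod.fst ≫ a ≫ biprod.inl) ≫ ε.inv
      map_add' := by
        intro a b
        have gen : ∀ (a b : A ⟶ A), ε.hom ≫ (biprod.fst ≫ (a + b) ≫ biprod.inl) ≫ ε.inv =
            ε.hom ≫ (biprod.fst ≫ a ≫ biprod.inl) ≫ ε.inv +
              ε.hom ≫ (biprod.fst ≫ b ≫ biprod.inl) ≫ ε.inv := by
          intro a b
          simp only [Preadditive.comp_add, Preadditive.add_comp]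
        exact gen a b
      map_smul' := by
        intro c a
        have gen : ∀ (a : A ⟶ A), ε.hom ≫ (biprod.fst ≫ (c • a) ≫ biprod.inl) ≫ ε.inv =
            c • (ε.hom ≫ (biprod.fst ≫ a ≫ biprod.inl) ≫ ε.inv) := by
          intro a
          simp only [Linear.smul_comp, Linear.comp_smul]
        exact gen a }
  have hinj : Function.Injective T := by
    intro a b hab
    have h1 : ε.hom ≫ (biprod.fst ≫ a ≫ biprod.inl) ≫ ε.inv =
        ε.hom ≫ (biprod.fst ≫ b ≫ biprod.inl) ≫ ε.inv := hab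
    have h2 := congrArg (fun t => (biprod.inl : A ⟶ A ⊞ B) ≫ ε.inv ≫ t ≫ ε.hom ≫ biprod.fst) h1
    simpa using h2
  have hrange : LinearMap.range T ≠ ⊤ := by
    intro htop
    have hmem : (𝟙 E : End E) ∈ LinearMap.range T := by rw [htop]; trivial
    obtain ⟨a, ha⟩ := hmem
    have ha' : ε.hom ≫ (biprod.fst ≫ a ≫ biprod.inl) ≫ ε.inv = 𝟙 E := ha
    apply hB
    rw [IsZero.iff_id_eq_zero]
    have h1 : (biprod.inr : B ⟶ A ⊞ B) ≫ ε.inv ≫ (𝟙 E) ≫ ε.hom ≫ biprod.snd = 𝟙 B := by simp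
    rw [← h1, ← ha']
    simp
  calc Module.finrank k (End A) = Module.finrank k (LinearMap.range T) :=
        (LinearMap.finrank_range_of_inj hinj).symm
    _ < Module.finrank k (End E) := Submodule.finrank_lt hrange

include k in
theorem nilpotent_or_unit_of_indec {E : X.Modules} (hE : Coh.IsCoh E) (hind : Indec E)
    (a : End E) : IsNilpotent a ∨ IsUnit a := by
  have hfin : Module.Finite k (End E) :=
    Groth.Agent.Lib.Helper2.DegAdd.finite_hom k E E hE hE
  have hint : Algebra.IsIntegral k (End E) := Algebra.IsIntegral.of_finite k (End E)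
  exact isNilpotent_or_isUnit (k := k) (A := End E)
    (fun e he => Groth.Agent.Lib.Helper2.DegAdd.idem_eq_zero_or_one_of_indecomposable E hind.2 e he)
    a (Algebra.IsIntegral.isIntegral a)

include k in
theorem krull_schmidt (F : X.Modules) (hF : Coh.IsCoh F) :
    (∃ (n : ℕ) (Fs : Fin n → X.Modules), (∀ i, Indec (Fs i)) ∧ Nonempty (F ≅ ⨁ Fs)) ∧
    (∀ (n m : ℕ) (Fs : Fin n → X.Modules) (Gs : Fin m → X.Modules),
      (∀ i, Indec (Fs i)) → (∀ j, Indec (Gs j)) →
      Nonempty (F ≅ ⨁ Fs) → Nonempty (F ≅ ⨁ Gs) →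
      ∃ e : Fin n ≃ Fin m, ∀ i, Nonempty (Fs i ≅ Gs (e i))) := by
  constructor
  · exact exists_decomp (C := X.Modules) Coh.IsCoh (fun E => Module.finrank k (End E))
      (fun E A B hE ε => isCoh_summands hE ε)
      (fun E A B hE ε hB => finrank_end_lt k hE ε hB) _ F le_rfl hF
  · rintro n m Fs Gs hFs hGs ⟨φ₁⟩ ⟨φ₂⟩
    refine unique_decomp n m Fs Gs (fun i => (hFs i).1) (fun i => ?_) (fun j => (hGs j).1)
      (fun j e he =>
        Groth.Agent.Lib.Helper2.DegAdd.idem_eq_zero_or_one_of_indecomposable _ (hGs j).2 e he)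
      ⟨φ₁.symm ≪≫ φ₂⟩
    have hc : Coh.IsCoh (Fs i) :=
      isCoh_of_retract (biproduct.ι Fs i ≫ φ₁.inv) (φ₁.hom ≫ biproduct.π Fs i) (by simp) hF
    exact nilpotent_or_unit_of_indec k hc (hFs i)

end Proper

end Groth.Agent.Lib.Helper2.KS
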