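import Groth.Agent.Lib.Helper2.KS.Nori4
import Groth.Agent.Lib.Helper2.KS.Sch
import Groth.Agent.Lib.Helper2.DegAdd.RankTwo
import Groth.Agent.Lib.Lead.TwistExact
import Groth.Agent.Lib.Helper12.Fin13
import Groth.Agent.Lib.Helper12.Dev7
import Groth.Prelude.Def_KoszTw

/-! # Nori's finiteness criterion for coherent modules on a proper scheme over a field (helper2) -/

set_option autoImplicit false
universe u
open CategoryTheory CategoryTheory.Limits AlgebraicGeometry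

namespace Groth.Agent.Lib.Helper2.KS

attribute [local instance] CategoryTheory.Abelian.hasFiniteBiproducts

variable {X : Scheme.{u}}

theorem isCoh_tensorPow (E : X.Modules) (hE : Coh.IsCoh E) : ∀ n, Coh.IsCoh (CohB1.tensorPow E n)
  | 0 => Groth.Agent.Lib.Helper12.H12Dev.isCoh_unitM X
  | n + 1 => Groth.Agent.Lib.Helper12.H12Fin.isCoh_tensorMod' (isCoh_tensorPow E hE n) hE

theorem isCoh_biprod {A B : X.Modules} (hA : Coh.IsCoh A) (hB : Coh.IsCoh B) :
    Coh.IsCoh (A ⊞ B) :=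
  Groth.Agent.Lib.Helper2.DegAdd.isCoh_of_shortExact _
    (Groth.Agent.Lib.Helper2.DegAdd.shortExact_of_iso_biprod (Iso.refl (A ⊞ B))) hA hB

theorem retract_tensorMod {A A' B B' : X.Modules} (hA : Retract A A') (hB : Retract B B') :
    Retract (CohB1.tensorMod A B) (CohB1.tensorMod A' B') := by
  obtain ⟨i, r, h⟩ := hA
  obtain ⟨i', r', h'⟩ := hB
  exact ⟨KoszTw.tensorMap i i', KoszTw.tensorMap r r', by
    rw [← KoszTw.tensorMap_comp, h, h', KoszTw.tensorMap_id]⟩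

theorem retract_tensorPow {A A' : X.Modules} (hA : Retract A A') :
    ∀ n, Retract (CohB1.tensorPow A n) (CohB1.tensorPow A' n)
  | 0 => Retract.of_iso (Iso.refl _)
  | n + 1 => retract_tensorMod (retract_tensorPow hA n) hA

section Proper
variable (k : Type u) [Field k] [X.Over (Spec (CommRingCat.of k))]
  [IsProper (X ↘ Spec (CommRingCat.of k))]

include k in
theorem hNU_coh : ∀ F : X.Modules, PI Coh.IsCoh F → ∀ a : End F, IsNilpotent a ∨ IsUnit a :=
  fun F hF a => nilpotent_or_unit_of_indec k hF.2 hF.1 a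

include k in
theorem hdec_coh : ∀ F : X.Modules, Coh.IsCoh F → ∃ (n : ℕ) (Fs : Fin n → X.Modules),
    (∀ i, PI Coh.IsCoh (Fs i)) ∧ Nonempty (F ≅ ⨁ Fs) := by
  intro F hF
  obtain ⟨n, Fs, hFs, ⟨φ⟩⟩ := (krull_schmidt k F hF).1
  refine ⟨n, Fs, fun i => ⟨hFs i, ?_⟩, ⟨φ⟩⟩
  exact isCoh_of_retract (biproduct.ι Fs i ≫ φ.inv) (φ.hom ≫ biproduct.π Fs i) (by simp) hF

include k in
/-- **Weil-finite ⇒ finitely many components.** -/
theorem exists_cover_of_weilFinite (E : X.Modules) (hE : Coh.IsCoh E) (P Q : Polynomial ℕ)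
    (hPQ : P ≠ Q)
    (h : Nonempty ((∐ fun i : Fin (P.natDegree + 1) => ∐ fun _ : Fin (P.coeff ↑i) =>
        CohB1.tensorPow E ↑i) ≅
      (∐ fun i : Fin (Q.natDegree + 1) => ∐ fun _ : Fin (Q.coeff ↑i) => CohB1.tensorPow E ↑i))) :
    ∃ (N : ℕ) (S : Fin N → X.Modules), (∀ s, PI Coh.IsCoh (S s)) ∧
      ∀ I, PI Coh.IsCoh I → ∀ n, Retract I (CohB1.tensorPow E n) → ∃ s, Nonempty (I ≅ S s) :=
  exists_cover (hNU_coh k) (hdec_coh k) (fun n => CohB1.tensorPow E n) (isCoh_tensorPow E hE)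
    (Groth.Agent.Lib.Lead.TwistExact.tensorRight E) (fun n => ⟨Iso.refl _⟩) P Q hPQ h

include k in
/-- **Finitely many components ⇒ Weil-finite.** -/
theorem weilFinite_of_exists_cover (E : X.Modules) (hE : Coh.IsCoh E) {N : ℕ}
    (S : Fin N → X.Modules)
    (hS : ∀ I, PI Coh.IsCoh I → ∀ n, Retract I (CohB1.tensorPow E n) → ∃ s, Nonempty (I ≅ S s)) :
    ∃ P Q : Polynomial ℕ, P ≠ Q ∧
      Nonempty ((∐ fun i : Fin (P.natDegree + 1) => ∐ fun _ : Fin (P.coeff ↑i) =>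
          CohB1.tensorPow E ↑i) ≅
        (∐ fun i : Fin (Q.natDegree + 1) => ∐ fun _ : Fin (Q.coeff ↑i) =>
          CohB1.tensorPow E ↑i)) := by
  have key : ∀ n, ∃ (m : ℕ) (c : Fin m → Fin N),
      Nonempty (CohB1.tensorPow E n ≅ ⨁ fun j => S (c j)) := by
    intro n
    obtain ⟨m, Fs, hFs, ⟨φ⟩⟩ := hdec_coh k _ (isCoh_tensorPow E hE n)
    have h1 : ∀ j, ∃ s, Nonempty (Fs j ≅ S s) := fun j =>
      hS (Fs j) (hFs j) n ((retract_biproduct Fs j).trans (Retract.of_iso φ.symm))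
    choose c hc using h1
    exact ⟨m, c, ⟨φ ≪≫ biproduct.mapIso (fun j => (hc j).some)⟩⟩
  choose m c φ using key
  exact weilFinite_of_cover (fun n => CohB1.tensorPow E n) S m c (fun n => (φ n).some)

end Proper

end Groth.Agent.Lib.Helper2.KS
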