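import Groth.Agent.Lib.Helper2.KS.NoriSch
import Groth.Agent.Lib.Helper2.KS.Nori5
import Groth.Agent.Lib.Helper29.TensorIso

/-! # Sums and tensor products of Weil-finite modules (helper2) -/

set_option autoImplicit false
universe u
open CategoryTheory CategoryTheory.Limits AlgebraicGeometry
open Groth.Agent.Lib.Helper29.QCoh (tensorAssoc tensorBraid tensorCongr tensorUnitL tensorPowTensor)
open Groth.Agent.Lib.Lead.TwistExact (tensorRight)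

namespace Groth.Agent.Lib.Helper2.KS

attribute [local instance] CategoryTheory.Abelian.hasFiniteBiproducts

variable {X : Scheme.{u}}

theorem retract_tensor_biproduct_left {n : ℕ} (I : X.Modules) (hI : ¬ IsZero I)
    (hNU : ∀ a : End I, IsNilpotent a ∨ IsUnit a) (Xs : Fin n → X.Modules) (Z : X.Modules)
    (hr : Retract I (CohB1.tensorMod (⨁ Xs) Z)) : ∃ i, Retract I (CohB1.tensorMod (Xs i) Z) :=
  exists_retract_of_retract_biproduct I _ hI hNU hr (fun i => CohB1.tensorMod (Xs i) Z)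
    ((tensorRight Z).mapBiproduct Xs)

theorem retract_tensor_biproduct {n m : ℕ} (I : X.Modules) (hI : ¬ IsZero I)
    (hNU : ∀ a : End I, IsNilpotent a ∨ IsUnit a) (Xs : Fin n → X.Modules)
    (Ys : Fin m → X.Modules) (hr : Retract I (CohB1.tensorMod (⨁ Xs) (⨁ Ys))) :
    ∃ i j, Retract I (CohB1.tensorMod (Xs i) (Ys j)) := by
  obtain ⟨i, hi⟩ := retract_tensor_biproduct_left I hI hNU Xs (⨁ Ys) hr
  have h2 : Retract I (CohB1.tensorMod (⨁ Ys) (Xs i)) :=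
    hi.trans (Retract.of_iso (tensorBraid _ _))
  obtain ⟨j, hj⟩ := retract_tensor_biproduct_left I hI hNU Ys (Xs i) h2
  exact ⟨i, j, hj.trans (Retract.of_iso (tensorBraid _ _))⟩

theorem retract_tensor_biprod (I : X.Modules) (hI : ¬ IsZero I)
    (hNU : ∀ a : End I, IsNilpotent a ∨ IsUnit a) (G E₁ E₂ : X.Modules)
    (hr : Retract I (CohB1.tensorMod G (E₁ ⊞ E₂))) :
    Retract I (CohB1.tensorMod G E₁) ∨ Retract I (CohB1.tensorMod G E₂) := by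
  have h2 : Retract I (CohB1.tensorMod (E₁ ⊞ E₂) G) :=
    hr.trans (Retract.of_iso (tensorBraid _ _))
  have : PreservesBinaryBiproduct E₁ E₂ (tensorRight G) :=
    preservesBinaryBiproduct_of_preservesBinaryCoproduct (tensorRight G)
  rcases retract_or_of_retract_biprod I _ (CohB1.tensorMod E₁ G) (CohB1.tensorMod E₂ G) hI hNU h2
    ((tensorRight G).mapBiprod E₁ E₂) with h | h
  · left; exact h.trans (Retract.of_iso (tensorBraid _ _))
  · right; exact h.trans (Retract.of_iso (tensorBraid _ _))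

section Proper
variable (k : Type u) [Field k] [X.Over (Spec (CommRingCat.of k))]
  [IsProper (X ↘ Spec (CommRingCat.of k))]

include k in
theorem exists_cover_tensor {N₁ N₂ : ℕ} (S₁ : Fin N₁ → X.Modules) (S₂ : Fin N₂ → X.Modules)
    (hS₁ : ∀ s, PI Coh.IsCoh (S₁ s)) (hS₂ : ∀ s, PI Coh.IsCoh (S₂ s)) :
    ∃ (N : ℕ) (S : Fin N → X.Modules), (∀ t, PI Coh.IsCoh (S t)) ∧
      ∀ I, PI Coh.IsCoh I → ∀ s s', Retract I (CohB1.tensorMod (S₁ s) (S₂ s')) →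
        ∃ t, Nonempty (I ≅ S t) := by
  choose n Fs hFs φ using fun p : Fin N₁ × Fin N₂ => hdec_coh k _
    (Groth.Agent.Lib.Helper12.H12Fin.isCoh_tensorMod' (hS₁ p.1).2 (hS₂ p.2).2)
  obtain ⟨N, ⟨ε⟩⟩ := Finite.exists_equiv_fin (Σ p : Fin N₁ × Fin N₂, Fin (n p))
  refine ⟨N, fun t => Fs (ε.symm t).1 (ε.symm t).2, fun t => hFs _ _, fun I hI s s' hr => ?_⟩
  obtain ⟨j, ⟨α⟩⟩ := exists_iso_of_retract (hNU_coh k) I _ hI hr (n (s, s')) (Fs (s, s'))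
    (hFs (s, s')) (φ (s, s')).some
  refine ⟨ε ⟨(s, s'), j⟩, ⟨α ≪≫ eqToIso ?_⟩⟩
  show (fun q : (Σ p : Fin N₁ × Fin N₂, Fin (n p)) => Fs q.1 q.2) ⟨(s, s'), j⟩ =
    (fun q : (Σ p : Fin N₁ × Fin N₂, Fin (n p)) => Fs q.1 q.2) (ε.symm (ε ⟨(s, s'), j⟩))
  rw [Equiv.symm_apply_apply]

variable (E₁ E₂ : X.Modules) (hc₁ : Coh.IsCoh E₁) (hc₂ : Coh.IsCoh E₂)
  {N₁ N₂ N : ℕ} (S₁ : Fin N₁ → X.Modules) (S₂ : Fin N₂ → X.Modules) (S : Fin N → X.Modules)
  (hcov₁ : ∀ I, PI Coh.IsCoh I → ∀ n, Retract I (CohB1.tensorPow E₁ n) → ∃ s, Nonempty (I ≅ S₁ s))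
  (hcov₂ : ∀ I, PI Coh.IsCoh I → ∀ n, Retract I (CohB1.tensorPow E₂ n) → ∃ s, Nonempty (I ≅ S₂ s))
  (hcov : ∀ I, PI Coh.IsCoh I → ∀ s s', Retract I (CohB1.tensorMod (S₁ s) (S₂ s')) →
        ∃ t, Nonempty (I ≅ S t))

include k hc₁ hc₂ hcov₁ hcov₂ hcov in
theorem cover_AB (I : X.Modules) (hI : PI Coh.IsCoh I) (a b : ℕ)
    (hr : Retract I (CohB1.tensorMod (CohB1.tensorPow E₁ a) (CohB1.tensorPow E₂ b))) :
    ∃ t, Nonempty (I ≅ S t) := by
  obtain ⟨n, Gs, hGs, ⟨φ⟩⟩ := hdec_coh k _ (isCoh_tensorPow E₁ hc₁ a)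
  obtain ⟨m, Gs', hGs', ⟨φ'⟩⟩ := hdec_coh k _ (isCoh_tensorPow E₂ hc₂ b)
  obtain ⟨i, j, hij⟩ := retract_tensor_biproduct I hI.1.1 (hNU_coh k I hI) Gs Gs'
    (hr.trans (Retract.of_iso (tensorCongr φ φ')))
  obtain ⟨s, ⟨α⟩⟩ := hcov₁ (Gs i) (hGs i) a
    ((retract_biproduct Gs i).trans (Retract.of_iso φ.symm))
  obtain ⟨s', ⟨α'⟩⟩ := hcov₂ (Gs' j) (hGs' j) b
    ((retract_biproduct Gs' j).trans (Retract.of_iso φ'.symm))
  exact hcov I hI s s' (hij.trans (Retract.of_iso (tensorCongr α α')))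

include k hc₁ hc₂ in
theorem retract_AB_of_retract_pow_biprod : ∀ (n : ℕ) (I : X.Modules), PI Coh.IsCoh I →
    Retract I (CohB1.tensorPow (E₁ ⊞ E₂) n) →
    ∃ a b, Retract I (CohB1.tensorMod (CohB1.tensorPow E₁ a) (CohB1.tensorPow E₂ b))
  | 0, I, _, hr => ⟨0, 0, hr.trans (Retract.of_iso (tensorUnitL _).symm)⟩
  | n + 1, I, hI, hr => by
    have hW : Coh.IsCoh (E₁ ⊞ E₂) := isCoh_biprod hc₁ hc₂
    obtain ⟨m, Gs, hGs, ⟨φ⟩⟩ := hdec_coh k _ (isCoh_tensorPow (E₁ ⊞ E₂) hW n)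
    have hr' : Retract I (CohB1.tensorMod (⨁ Gs) (E₁ ⊞ E₂)) :=
      hr.trans (Retract.of_iso (tensorCongr φ (Iso.refl _)))
    obtain ⟨i, hi⟩ := retract_tensor_biproduct_left I hI.1.1 (hNU_coh k I hI) Gs (E₁ ⊞ E₂) hr'
    obtain ⟨a, b, hab⟩ := retract_AB_of_retract_pow_biprod n (Gs i) (hGs i)
      ((retract_biproduct Gs i).trans (Retract.of_iso φ.symm))
    rcases retract_tensor_biprod I hI.1.1 (hNU_coh k I hI) (Gs i) E₁ E₂ hi with h | h
    · refine ⟨a + 1, b, h.trans ((retract_tensorMod hab (Retract.of_iso (Iso.refl E₁))).trans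
        (Retract.of_iso ?_))⟩
      exact tensorAssoc _ _ _ ≪≫ tensorCongr (Iso.refl _) (tensorBraid _ _) ≪≫
        (tensorAssoc _ _ _).symm
    · refine ⟨a, b + 1, h.trans ((retract_tensorMod hab (Retract.of_iso (Iso.refl E₂))).trans
        (Retract.of_iso ?_))⟩
      exact tensorAssoc _ _ _

end Proper

end Groth.Agent.Lib.Helper2.KS
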